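import Mathlib.RingTheory.Henselian
import Mathlib.Tactic

/-! Elementary facts about henselian pairs. -/

universe u

namespace Groth.Agent.EtAlgPair

open Polynomial

variable {R : Type u} [CommRing R] {I : Ideal R}

/-- Units lift along a quotient by an ideal in the Jacobson radical. -/
lemma isUnit_of_isUnit_mk (hI : I ≤ Ideal.jacobson ⊥) {x : R}
    (hx : IsUnit (Ideal.Quotient.mk I x)) : IsUnit x := by
  have := isLocalHom_of_le_jacobson_bot I hI
  exact IsUnit.of_map (Ideal.Quotient.mk I) x hx

/-- Uniqueness of a simple root in a residue class. -/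
lemma simpleRoot_unique (hI : I ≤ Ideal.jacobson ⊥) (f : R[X]) {a b : R}
    (ha : f.eval a = 0) (hb : f.eval b = 0) (hab : b - a ∈ I)
    (hd : IsUnit (Ideal.Quotient.mk I (f.derivative.eval a))) : a = b := by
  obtain ⟨k, hk⟩ := f.binomExpansion a (b - a)
  rw [add_sub_cancel, hb, ha, zero_add] at hk
  have h1 : (f.derivative.eval a + k * (b - a)) * (b - a) = 0 := by linear_combination -hk
  have h2 : IsUnit (f.derivative.eval a + k * (b - a)) := by
    refine isUnit_of_isUnit_mk hI ?_
    rwa [map_add, Ideal.Quotient.eq_zero_iff_mem.mpr (Ideal.mul_mem_left _ k hab), add_zero]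
  exact (sub_eq_zero.mp (h2.mul_right_eq_zero.mp h1)).symm

/-- An element is in the Jacobson radical as soon as `1 + x * y` is a unit for all `y`. -/
lemma le_jacobson_bot_of_forall (h : ∀ x ∈ I, IsUnit (1 + x)) : I ≤ Ideal.jacobson ⊥ := by
  intro x hx
  rw [Ideal.mem_jacobson_bot]
  intro y
  rw [add_comm]
  exact h _ (I.mul_mem_right y hx)

lemma isUnit_one_add (hI : I ≤ Ideal.jacobson ⊥) {x : R} (hx : x ∈ I) : IsUnit (1 + x) := by
  have := Ideal.mem_jacobson_bot.mp (hI hx) 1
  rwa [mul_one, add_comm] at this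

end Groth.Agent.EtAlgPair
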