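import Groth.Agent.EtAlgPair.WeakField
import Groth.Prelude.Def_EtAlgD

/-!
# The largest weakly étale subalgebra over a field
-/

set_option autoImplicit false

universe u

open Polynomial

namespace Groth.Agent.EtAlgPair.WeakField

variable {K : Type u} [Field K] {A : Type u} [CommRing A] [Algebra K A]

/-- `b` is killed by a separable polynomial. -/
def IsSep (K : Type u) [Field K] {A : Type u} [CommRing A] [Algebra K A] (b : A) : Prop :=
  ∃ f : K[X], f.Separable ∧ aeval b f = 0

theorem isSep_algHom {A' : Type u} [CommRing A'] [Algebra K A'] (φ : A →ₐ[K] A') {b : A} (h : IsSep K b) :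
    IsSep K (φ b) := by
  obtain ⟨f, hf, hb⟩ := h
  exact ⟨f, hf, by rw [aeval_algHom_apply, hb, map_zero]⟩

theorem isSep_of_injective {A' : Type u} [CommRing A'] [Algebra K A'] (φ : A →ₐ[K] A')
    (hφ : Function.Injective φ) {b : A} (h : IsSep K (φ b)) : IsSep K b := by
  obtain ⟨f, hf, hb⟩ := h
  exact ⟨f, hf, hφ (by rw [← aeval_algHom_apply, hb, map_zero])⟩

theorem isSep_algebraMap (r : K) : IsSep K (algebraMap K A r) :=
  ⟨X - C r, separable_X_sub_C, by simp⟩

/-- An algebra generated by finitely many separable elements is étale. -/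
theorem etale_of_adjoin_eq_top {s : Set A} (hfin : s.Finite) (hs : ∀ b ∈ s, IsSep K b)
    (htop : Algebra.adjoin K s = ⊤) : Algebra.Etale K A := by
  haveI : Algebra.FiniteType K A := ⟨Subalgebra.fg_def.mpr ⟨s, hfin, htop⟩⟩
  have key : ∀ b : A, KaehlerDifferential.D K A b = 0 := by
    intro b
    have hb : b ∈ Algebra.adjoin K s := by rw [htop]; exact Algebra.mem_top
    induction hb using Algebra.adjoin_induction with
    | mem x hx =>
      obtain ⟨f, hf, hb⟩ := hs x hx
      obtain ⟨u, v, huv⟩ := hf
      have h1 : aeval x (derivative f) • KaehlerDifferential.D K A x = 0 := by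
        rw [← Derivation.map_aeval, hb, map_zero]
      have h2 : aeval x v * aeval x (derivative f) = 1 := by
        have h3 := congrArg (aeval x) huv
        rwa [map_add, map_mul, map_mul, hb, mul_zero, zero_add, map_one] at h3
      calc KaehlerDifferential.D K A x = (1 : A) • KaehlerDifferential.D K A x := (one_smul _ _).symm
        _ = 0 := by rw [← h2, mul_smul, h1, smul_zero]
    | algebraMap r => exact (KaehlerDifferential.D K A).map_algebraMap r
    | add x y _ _ hx hy => rw [map_add, hx, hy, add_zero]
    | mul x y _ _ hx hy => rw [Derivation.leibniz, hx, hy, smul_zero, smul_zero, add_zero]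
  haveI : Algebra.FormallyUnramified K A := by
    rw [Algebra.formallyUnramified_iff]
    refine ⟨fun x y => ?_⟩
    have hall : ∀ z : KaehlerDifferential K A, z = 0 := by
      intro z
      have hz : z ∈ Submodule.span A (Set.range (KaehlerDifferential.D K A)) := by
        rw [KaehlerDifferential.span_range_derivation]; exact Submodule.mem_top
      induction hz using Submodule.span_induction with
      | mem z hz => obtain ⟨b, rfl⟩ := hz; exact key b
      | zero => rfl
      | add z w _ _ hz hw => rw [hz, hw, add_zero]
      | smul c z _ hz => rw [hz, smul_zero]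
    rw [hall x, hall y]
  haveI : Algebra.FormallyEtale K A := Algebra.FormallyEtale.of_formallyUnramified_of_field K A
  exact ⟨inferInstance, Algebra.FinitePresentation.of_finiteType.mp inferInstance⟩

theorem isSep_of_mem_adjoin {s : Set A} (hfin : s.Finite) (hs : ∀ b ∈ s, IsSep K b) {b : A}
    (hb : b ∈ Algebra.adjoin K s) : IsSep K b := by
  let S := Algebra.adjoin K s
  haveI : Algebra.Etale K S := by
    refine etale_of_adjoin_eq_top (s := Subtype.val ⁻¹' s)
      (hfin.preimage Subtype.val_injective.injOn) (fun x hx => ?_) (Algebra.adjoin_adjoin_coe_preimage)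
    exact isSep_of_injective S.val Subtype.val_injective (hs x hx)
  exact isSep_algHom S.val (exists_separable_aeval K (⟨b, hb⟩ : S))

variable (K A) in
/-- The separable elements form a subalgebra. -/
def sepSubalgebra : Subalgebra K A where
  carrier := {b | IsSep K b}
  algebraMap_mem' r := isSep_algebraMap r
  mul_mem' {x y} hx hy := isSep_of_mem_adjoin (s := {x, y}) (Set.toFinite _)
    (by rintro b (rfl | rfl) <;> assumption)
    (mul_mem (Algebra.subset_adjoin (Set.mem_insert _ _)) (Algebra.subset_adjoin (Set.mem_insert_of_mem _ rfl)))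
  add_mem' {x y} hx hy := isSep_of_mem_adjoin (s := {x, y}) (Set.toFinite _)
    (by rintro b (rfl | rfl) <;> assumption)
    (add_mem (Algebra.subset_adjoin (Set.mem_insert _ _)) (Algebra.subset_adjoin (Set.mem_insert_of_mem _ rfl)))

theorem weaklyEtale_sepSubalgebra : Algebra.WeaklyEtale K (sepSubalgebra K A) :=
  weaklyEtale_of_forall_separable fun b => isSep_of_injective (sepSubalgebra K A).val Subtype.val_injective b.2

theorem maxWeaklyEtale_eq : EtAlgD.maxWeaklyEtale K A = sepSubalgebra K A := by
  refine le_antisymm (sSup_le fun S hS b hb => ?_) (le_sSup weaklyEtale_sepSubalgebra)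
  haveI : Algebra.WeaklyEtale K S := hS
  exact isSep_algHom S.val (exists_separable_aeval K (⟨b, hb⟩ : S))

theorem mem_maxWeaklyEtale_iff {b : A} : b ∈ EtAlgD.maxWeaklyEtale K A ↔ IsSep K b := by
  rw [maxWeaklyEtale_eq]; rfl

end Groth.Agent.EtAlgPair.WeakField
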