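import Groth.Agent.EtAlgPair.MaxWeak
import Mathlib.RingTheory.Trace.Basic
import Mathlib.FieldTheory.PurelyInseparable.Basic
import Mathlib.RingTheory.Jacobson.Ring
import Mathlib.RingTheory.Idempotents
import Mathlib.LinearAlgebra.Lagrange

/-!
# Separable elements and extension of the ground field
-/

set_option autoImplicit false

universe u

open Polynomial TensorProduct

namespace Groth.Agent.EtAlgPair.WeakField

section AlgClosed

variable {k : Type u} [Field k] [IsAlgClosed k] {R : Type u} [CommRing R] [IsDomain R] [Algebra k R]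
  [Algebra.FiniteType k R]

/-- `k`-points separate the elements of a finitely generated domain. -/
theorem exists_point {r : R} (hr : r ≠ 0) : ∃ χ : R →ₐ[k] k, χ r ≠ 0 := by
  haveI : IsJacobsonRing R := isJacobsonRing_of_finiteType (A := k)
  have h : r ∉ (⊥ : Ideal R).jacobson := by
    rw [IsJacobsonRing.out inferInstance (Ideal.IsPrime.isRadical (Ideal.isPrime_bot))]
    simpa using hr
  rw [Ideal.jacobson, Ideal.mem_sInf] at h
  simp only [not_forall] at h
  obtain ⟨m, ⟨-, hm⟩, hrm⟩ := h
  letI : Field (R ⧸ m) := Ideal.Quotient.field m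
  haveI : Module.Finite k (R ⧸ m) := finite_of_finite_type_of_isJacobsonRing k (R ⧸ m)
  haveI : Algebra.IsIntegral k (R ⧸ m) := Algebra.IsIntegral.of_finite k _
  let e : k ≃ₐ[k] (R ⧸ m) := AlgEquiv.ofBijective (Algebra.ofId k (R ⧸ m))
    IsAlgClosed.algebraMap_bijective_of_isIntegral
  refine ⟨e.symm.toAlgHom.comp (Ideal.Quotient.mkₐ k m), fun h0 => hrm ?_⟩
  rw [← Ideal.Quotient.eq_zero_iff_mem]
  exact e.symm.injective (h0.trans (map_zero e.symm).symm)

variable {A : Type u} [CommRing A] [Algebra k A]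

/-- Evaluation at a point. -/
noncomputable def evalPoint (A : Type u) [CommRing A] [Algebra k A] (χ : R →ₐ[k] k) : R ⊗[k] A →ₐ[k] A :=
  (Algebra.TensorProduct.lid k A).toAlgHom.comp (Algebra.TensorProduct.map χ (AlgHom.id k A))

theorem evalPoint_tmul (χ : R →ₐ[k] k) (r : R) (a : A) : evalPoint A χ (r ⊗ₜ a) = χ r • a := by
  simp [evalPoint]

theorem repr_evalPoint {ι : Type u} (b : Module.Basis ι k A) (χ : R →ₐ[k] k) (z : R ⊗[k] A) (i : ι) :
    b.repr (evalPoint A χ z) i = χ ((Algebra.TensorProduct.basis R b).repr z i) := by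
  induction z with
  | zero => simp
  | tmul r a =>
    rw [evalPoint_tmul, map_smul, Finsupp.smul_apply, Algebra.TensorProduct.basis_repr_tmul,
      Finsupp.smul_apply, Finsupp.mapRange_apply, smul_eq_mul, smul_eq_mul, map_mul, AlgHom.commutes]
    rfl
  | add x y hx hy => simp [map_add, hx, hy]

theorem eq_of_forall_evalPoint {z w : R ⊗[k] A} (h : ∀ χ : R →ₐ[k] k, evalPoint A χ z = evalPoint A χ w) :
    z = w := by
  let b := Module.Free.chooseBasis k A
  refine (Algebra.TensorProduct.basis R b).repr.injective (Finsupp.ext fun i => ?_)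
  by_contra hne
  obtain ⟨χ, hχ⟩ := exists_point (k := k) (sub_ne_zero.mpr hne)
  rw [map_sub, ← repr_evalPoint, ← repr_evalPoint, h χ, sub_self] at hχ
  exact hχ rfl

/-- Idempotents over a connected algebra stay trivial after adjoining a finitely generated domain. -/
theorem idempotent_eq_zero_or_one (hA : ∀ a : A, IsIdempotentElem a → a = 0 ∨ a = 1) {e : R ⊗[k] A}
    (he : IsIdempotentElem e) : e = 0 ∨ e = 1 := by
  by_contra h
  push Not at h
  let b := Module.Free.chooseBasis k A
  have hex : ∀ {z : R ⊗[k] A}, z ≠ 0 → ∃ i, (Algebra.TensorProduct.basis R b).repr z i ≠ 0 := by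
    intro z hz
    by_contra hall
    push Not at hall
    exact hz ((Algebra.TensorProduct.basis R b).repr.injective (Finsupp.ext fun i => by rw [hall i, map_zero]; rfl))
  obtain ⟨i, hi⟩ := hex h.1
  obtain ⟨j, hj⟩ := hex (sub_ne_zero.mpr h.2.symm)
  obtain ⟨χ, hχ⟩ := exists_point (k := k) (mul_ne_zero hi hj)
  rw [map_mul, ← repr_evalPoint, ← repr_evalPoint] at hχ
  rcases hA _ (he.map (evalPoint A χ)) with h0 | h1
  · rw [h0] at hχ; simp at hχ
  · rw [map_sub, map_one, h1, sub_self] at hχ; simp at hχ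

theorem evalPoint_natural {A' : Type u} [CommRing A'] [Algebra k A'] (φ : A →ₐ[k] A') (χ : R →ₐ[k] k)
    (z : R ⊗[k] A) :
    evalPoint A' χ (Algebra.TensorProduct.map (AlgHom.id k R) φ z) = φ (evalPoint A χ z) := by
  induction z with
  | zero => simp
  | tmul r a =>
    rw [Algebra.TensorProduct.map_tmul, evalPoint_tmul, evalPoint_tmul, map_smul, AlgHom.id_apply]
  | add x y hx hy => simp [map_add, hx, hy]

theorem exists_idempotent_eq {e : R ⊗[k] A} (he : IsIdempotentElem e) :
    ∃ a : A, IsIdempotentElem a ∧ e = 1 ⊗ₜ a := by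
  obtain ⟨χ₀, -⟩ := exists_point (k := k) (one_ne_zero (α := R))
  refine ⟨evalPoint A χ₀ e, he.map _, eq_of_forall_evalPoint fun χ => ?_⟩
  rw [evalPoint_tmul, map_one, one_smul]
  refine eq_of_isNilpotent_sub_of_isIdempotentElem (he.map _) (he.map _) ?_
  rw [nilpotent_iff_mem_prime]
  intro p hp
  rw [← Ideal.algebraMap_residueField_eq_zero, map_sub, sub_eq_zero]
  let φ : A →ₐ[k] p.ResidueField := IsScalarTower.toAlgHom k A _
  show φ (evalPoint A χ e) = φ (evalPoint A χ₀ e)
  rw [← evalPoint_natural, ← evalPoint_natural]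
  rcases idempotent_eq_zero_or_one (k := k) (R := R) (A := p.ResidueField)
      (fun a ha => IsIdempotentElem.iff_eq_zero_or_one.mp ha)
      (he.map (Algebra.TensorProduct.map (AlgHom.id k R) φ)) with h0 | h1
  · rw [h0, map_zero, map_zero]
  · rw [h1, map_one, map_one]

end AlgClosed

/-- Over an algebraically closed field, extending the ground field creates no new idempotents. -/
theorem exists_idempotent_eq_of_isAlgClosed {k L : Type u} [Field k] [IsAlgClosed k] [Field L] [Algebra k L]
    {A : Type u} [CommRing A] [Algebra k A] {e : L ⊗[k] A} (he : IsIdempotentElem e) :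
    ∃ a : A, IsIdempotentElem a ∧ e = 1 ⊗ₜ a := by
  classical
  obtain ⟨s, hs⟩ := TensorProduct.exists_finset e
  let R := Algebra.adjoin k ((s.image Prod.fst : Finset L) : Set L)
  haveI : Algebra.FiniteType k R := R.fg_iff_finiteType.mp (Subalgebra.fg_adjoin_finset _)
  let e' : R ⊗[k] A := ∑ x ∈ s.attach, (⟨x.1.1, Algebra.subset_adjoin (by
    simpa using ⟨x.1.2, x.2⟩)⟩ : R) ⊗ₜ x.1.2
  let ι := Algebra.TensorProduct.map R.val (AlgHom.id k A)
  have hι : Function.Injective ι :=
    Module.Flat.rTensor_preserves_injective_linearMap (M := A) R.val.toLinearMap Subtype.val_injective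
  have he' : ι e' = e := by
    rw [hs, map_sum]
    refine Eq.trans (Finset.sum_congr rfl fun x _ => ?_) (Finset.sum_attach s fun x => x.1 ⊗ₜ[k] x.2)
    simp [ι]
  obtain ⟨a, ha, h1⟩ := exists_idempotent_eq (k := k) (R := R) (e := e') (hι (by rw [map_mul, he']; exact he))
  refine ⟨a, ha, ?_⟩
  rw [← he', h1]
  simp [ι]

variable {K : Type u} [Field K] {A : Type u} [CommRing A] [Algebra K A]

/-- An element of `Ω ⊗ A` killed by a separable polynomial is a combination of idempotents, for `Ω`
algebraically closed. -/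
theorem mem_span_idempotent {Ω : Type u} [Field Ω] [IsAlgClosed Ω] {D : Type u} [CommRing D] [Algebra Ω D]
    {z : D} (hz : IsSep Ω z) : z ∈ Submodule.span Ω {e : D | IsIdempotentElem e} := by
  classical
  obtain ⟨f, hf, hfz⟩ := hz
  have hf0 : f ≠ 0 := hf.ne_zero
  let s := f.roots.toFinset
  have hprod : f = C f.leadingCoeff * ∏ a ∈ s, (X - C a) := by
    rw [Finset.prod_eq_multiset_prod, Multiset.toFinset_val,
      Multiset.dedup_eq_self.mpr (nodup_roots hf)]
    exact (IsAlgClosed.splits f).eq_prod_roots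
  have hP : aeval z (∏ a ∈ s, (X - C a)) = 0 := by
    have h1 := congrArg (aeval z) hprod
    rw [hfz, map_mul, aeval_C] at h1
    exact ((IsUnit.mk0 _ (leadingCoeff_ne_zero.mpr hf0)).map (algebraMap Ω D)).mul_right_eq_zero.mp h1.symm
  have hdvd : ∀ p : Polynomial Ω, (∀ a ∈ s, p.eval a = 0) → aeval z p = 0 := by
    intro p hp
    have hd : ∏ a ∈ s, (X - C a) ∣ p :=
      Finset.prod_dvd_of_coprime (fun a _ b _ hab => isCoprime_X_sub_C_of_isUnit_sub (IsUnit.mk0 _ (sub_ne_zero.mpr hab)))
        fun a ha => dvd_iff_isRoot.mpr (hp a ha)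
    obtain ⟨q, rfl⟩ := hd
    rw [map_mul, hP, zero_mul]
  have hinj : Set.InjOn (id : Ω → Ω) (s : Set Ω) := Function.injective_id.injOn
  have hbas : ∀ a ∈ s, IsIdempotentElem (aeval z (Lagrange.basis s id a)) := by
    intro a ha
    show _ * _ = _
    rw [← sub_eq_zero, ← map_mul, ← map_sub]
    refine hdvd _ fun b hb => ?_
    rw [eval_sub, eval_mul]
    by_cases hab : a = b
    · subst hab
      rw [show (Lagrange.basis s id a).eval a = 1 from Lagrange.eval_basis_self hinj ha, mul_one, sub_self]
    · rw [show (Lagrange.basis s id a).eval b = 0 from Lagrange.eval_basis_of_ne (v := id) hab hb, mul_zero, sub_self]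
  have hz' : z = ∑ a ∈ s, a • aeval z (Lagrange.basis s id a) := by
    have h1 : aeval z (X - Lagrange.interpolate s id id) = 0 := hdvd _ fun b hb => by
      rw [eval_sub, eval_X, show (Lagrange.interpolate s id id).eval b = b from
        Lagrange.eval_interpolate_at_node id hinj hb, sub_self]
    rw [map_sub, aeval_X, sub_eq_zero, Lagrange.interpolate_apply, map_sum] at h1
    conv_lhs => rw [h1]
    refine Finset.sum_congr rfl fun a _ => ?_
    rw [map_mul, aeval_C, ← Algebra.smul_def]
    rfl
  rw [hz']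
  exact Submodule.sum_mem _ fun a ha => Submodule.smul_mem _ _ (Submodule.subset_span (hbas a ha))

/-- The coefficients of a separable element with respect to a separable extension are separable. -/
theorem exists_sep_sum {F : Type u} [Field F] [Algebra K F] [FiniteDimensional K F] [Algebra.IsSeparable K F]
    {z : F ⊗[K] A} (hz : IsSep K z) :
    ∃ (n : ℕ) (c : Fin n → F) (a : Fin n → A), (∀ i, IsSep K (a i)) ∧ z = ∑ i, c i ⊗ₜ a i := by
  classical
  let b := Module.finBasis K F
  let Ω := AlgebraicClosure K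
  let a : Fin (Module.finrank K F) → A := fun i =>
    (TensorProduct.equivFinsuppOfBasisLeft b z) i
  have hza : z = ∑ i, b i ⊗ₜ a i := by
    conv_lhs => rw [← (TensorProduct.equivFinsuppOfBasisLeft b).symm_apply_apply z]
    rw [TensorProduct.equivFinsuppOfBasisLeft_symm_apply, Finsupp.sum_fintype _ _ (fun i => by simp)]
  refine ⟨_, fun i => b i, a, fun l => ?_, hza⟩
  have hinj : Function.Injective (Algebra.TensorProduct.includeRight : A →ₐ[K] Ω ⊗[K] A) :=
    Algebra.TensorProduct.includeRight_injective (algebraMap K Ω).injective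
  refine isSep_of_injective _ hinj ?_
  have hsum : ∀ i, ∑ σ : F →ₐ[K] Ω, σ (b.traceDual l) * σ (b i) = if i = l then 1 else 0 := by
    intro i
    simp_rw [← map_mul]
    rw [← trace_eq_sum_embeddings Ω (K := K) (L := F), Module.Basis.trace_traceDual_mul]
    rw [apply_ite (algebraMap K Ω), map_one, map_zero]
  have key : (Algebra.TensorProduct.includeRight : A →ₐ[K] Ω ⊗[K] A) (a l) =
      ∑ σ : F →ₐ[K] Ω, (σ (b.traceDual l) ⊗ₜ[K] (1 : A)) * Algebra.TensorProduct.map σ (AlgHom.id K A) z := by
    conv_rhs =>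
      enter [2, σ]
      rw [hza, map_sum, Finset.mul_sum]
      enter [2, i]
      rw [Algebra.TensorProduct.map_tmul, Algebra.TensorProduct.tmul_mul_tmul, one_mul, AlgHom.id_apply]
    rw [Finset.sum_comm]
    simp_rw [← TensorProduct.sum_tmul, hsum, TensorProduct.ite_tmul]
    rw [Finset.sum_ite_eq' Finset.univ l, if_pos (Finset.mem_univ l)]
    rfl
  rw [key]
  show (∑ σ : F →ₐ[K] Ω, _) ∈ sepSubalgebra K (Ω ⊗[K] A)
  refine Subalgebra.sum_mem _ fun σ _ => Subalgebra.mul_mem _ ?_ ?_
  · have h1 : IsSep K (σ (b.traceDual l)) :=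
      ⟨minpoly K (σ (b.traceDual l)), (Algebra.IsSeparable.isSeparable K (b.traceDual l)).map σ σ.injective,
        minpoly.aeval _ _⟩
    exact isSep_algHom (Algebra.TensorProduct.includeLeft (R := K) (S := K) (A := Ω) (B := A)) h1
  · exact isSep_algHom _ hz

variable (K A) in
/-- Combinations of separable elements with coefficients in an extension field. -/
noncomputable def sepSpan (Ω : Type u) [Field Ω] [Algebra K Ω] : Submodule Ω (Ω ⊗[K] A) :=
  Submodule.span Ω ((fun a : A => (1 : Ω) ⊗ₜ[K] a) '' {a | IsSep K a})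

theorem tmul_mem_sepSpan {Ω : Type u} [Field Ω] [Algebra K Ω] (c : Ω) {a : A} (ha : IsSep K a) :
    c ⊗ₜ[K] a ∈ sepSpan K A Ω := by
  have h : c ⊗ₜ[K] a = c • ((1 : Ω) ⊗ₜ[K] a) := by rw [TensorProduct.smul_tmul', smul_eq_mul, mul_one]
  rw [h]
  exact Submodule.smul_mem _ _ (Submodule.subset_span ⟨a, ha, rfl⟩)

/-- Idempotents over the algebraic closure are combinations of separable elements. -/
theorem idempotent_mem_sepSpan {Ω : Type u} [Field Ω] [Algebra K Ω] [Algebra.IsAlgebraic K Ω]
    {e : Ω ⊗[K] A} (he : IsIdempotentElem e) : e ∈ sepSpan K A Ω := by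
  classical
  obtain ⟨q, hq⟩ := ExpChar.exists K
  haveI := hq
  haveI : ExpChar (separableClosure K Ω) q :=
    expChar_of_injective_algebraMap (algebraMap K (separableClosure K Ω)).injective q
  haveI : ExpChar Ω q := expChar_of_injective_algebraMap (algebraMap K Ω).injective q
  obtain ⟨s, hs⟩ := TensorProduct.exists_finset e
  have hN : ∀ ω : Ω, ∃ n, ω ^ q ^ n ∈ separableClosure K Ω := by
    intro ω
    obtain ⟨n, y, hy⟩ := IsPurelyInseparable.pow_mem (separableClosure K Ω) q ω
    exact ⟨n, hy ▸ y.2⟩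
  choose N hN using hN
  let n := s.sup fun x => N x.1
  have hn : ∀ x ∈ s, x.1 ^ q ^ n ∈ separableClosure K Ω := by
    intro x hx
    rw [show n = (n - N x.1) + N x.1 from (Nat.sub_add_cancel (Finset.le_sup (f := fun x => N x.1) hx)).symm,
      pow_add, mul_comm, pow_mul]
    exact pow_mem (hN x.1) _
  by_cases htriv : Nontrivial (Ω ⊗[K] A)
  swap
  · rw [not_nontrivial_iff_subsingleton] at htriv
    rw [Subsingleton.elim e 0]
    exact Submodule.zero_mem _
  haveI : ExpChar (Ω ⊗[K] A) q := expChar_of_injective_algebraMap (algebraMap K (Ω ⊗[K] A)).injective q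
  have heq : e = ∑ x ∈ s, (x.1 ^ q ^ n) ⊗ₜ[K] (x.2 ^ q ^ n) := by
    conv_lhs => rw [← IsIdempotentElem.pow_eq he (pow_pos (expChar_pos K q) n).ne', hs, sum_pow_char_pow]
    exact Finset.sum_congr rfl fun x _ => by rw [Algebra.TensorProduct.tmul_pow]
  let F := IntermediateField.adjoin K ((s.image fun x => x.1 ^ q ^ n : Finset Ω) : Set Ω)
  haveI : Algebra.IsSeparable K F := by
    rw [IntermediateField.isSeparable_adjoin_iff_isSeparable]
    intro y hy
    obtain ⟨x, hx, rfl⟩ := Finset.mem_image.mp hy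
    exact mem_separableClosure_iff.mp (hn x hx)
  haveI : FiniteDimensional K F :=
    IntermediateField.finiteDimensional_adjoin fun y _ => (Algebra.IsAlgebraic.isAlgebraic y).isIntegral
  let e₀ : F ⊗[K] A := ∑ x ∈ s.attach, (⟨x.1.1 ^ q ^ n, IntermediateField.subset_adjoin K _
    (Finset.mem_coe.mpr (Finset.mem_image_of_mem (fun x => x.1 ^ q ^ n) x.2))⟩ : F) ⊗ₜ (x.1.2 ^ q ^ n)
  let ι := Algebra.TensorProduct.map F.val (AlgHom.id K A)
  have hι : Function.Injective ι :=
    Module.Flat.rTensor_preserves_injective_linearMap (M := A) F.val.toLinearMap Subtype.val_injective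
  have he₀ : ι e₀ = e := by
    rw [heq, map_sum]
    refine Eq.trans (Finset.sum_congr rfl fun x _ => ?_)
      (Finset.sum_attach s fun x => (x.1 ^ q ^ n) ⊗ₜ[K] (x.2 ^ q ^ n))
    simp [ι]
  have hsep : IsSep K e₀ := by
    refine isSep_of_injective ι hι ?_
    rw [he₀]
    refine ⟨X * (X - 1), separable_X.mul (by simpa using separable_X_sub_C (x := (1 : K)))
      ⟨1, -1, by ring⟩, ?_⟩
    rw [map_mul, map_sub, aeval_X, map_one, mul_sub, mul_one, he.eq, sub_self]
  obtain ⟨m, c, a, ha, h1⟩ := exists_sep_sum hsep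
  rw [← he₀, h1, map_sum]
  refine Submodule.sum_mem _ fun i _ => ?_
  rw [Algebra.TensorProduct.map_tmul]
  exact tmul_mem_sepSpan _ (ha i)

/-- Separable elements after an extension of the ground field are combinations of separable elements. -/
theorem mem_sepSpan {L : Type u} [Field L] [Algebra K L] {z : L ⊗[K] A} (hz : IsSep L z) :
    z ∈ sepSpan K A L := by
  classical
  let M := AlgebraicClosure L
  let C₀ := algebraicClosure K M
  haveI : IsAlgClosure K C₀ := inferInstance
  haveI : IsAlgClosed C₀ := IsAlgClosure.isAlgClosed K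
  let ι : L ⊗[K] A →ₐ[K] M ⊗[K] A :=
    Algebra.TensorProduct.map (IsScalarTower.toAlgHom K L M) (AlgHom.id K A)
  have hzM : IsSep M (ι z) := by
    obtain ⟨f, hf, hfz⟩ := hz
    refine ⟨f.map (algebraMap L M), hf.map, ?_⟩
    let ιL : L ⊗[K] A →ₐ[L] M ⊗[K] A := Algebra.TensorProduct.map (Algebra.ofId L M) (AlgHom.id K A)
    have hιL : ι z = ιL z := by
      clear hfz
      induction z with
      | zero => simp
      | tmul l a => rfl
      | add x y hx hy => simp [map_add, hx, hy]
    rw [Polynomial.aeval_map_algebraMap, hιL, Polynomial.aeval_algHom_apply, hfz, map_zero]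
  have h1 : ι z ∈ sepSpan K A M := by
    have hle : Submodule.span M {e : M ⊗[K] A | IsIdempotentElem e} ≤ sepSpan K A M := by
      rw [Submodule.span_le]
      intro e he
      let Φ := Algebra.TensorProduct.cancelBaseChange K C₀ C₀ M A
      obtain ⟨a₀, ha₀, h2⟩ := exists_idempotent_eq_of_isAlgClosed (k := C₀) (L := M) (A := C₀ ⊗[K] A)
        (e := Φ.symm e) (IsIdempotentElem.map he Φ.symm)
      have h3 := idempotent_mem_sepSpan (K := K) (A := A) ha₀
      have h4 : e = Φ ((1 : M) ⊗ₜ a₀) := by rw [← h2, AlgEquiv.apply_symm_apply]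
      rw [SetLike.mem_coe, h4]
      clear h4 h2 ha₀
      induction h3 using Submodule.span_induction with
      | mem x hx =>
        obtain ⟨a, ha, rfl⟩ := hx
        rw [Algebra.TensorProduct.cancelBaseChange_tmul]
        exact tmul_mem_sepSpan _ ha
      | zero => rw [TensorProduct.tmul_zero, map_zero]; exact Submodule.zero_mem _
      | add x y _ _ hx hy => rw [TensorProduct.tmul_add, map_add]; exact Submodule.add_mem _ hx hy
      | smul c x _ hx =>
        have h5 : (1 : M) ⊗ₜ[C₀] (c • x) = c • ((1 : M) ⊗ₜ[C₀] x) := TensorProduct.tmul_smul _ _ _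
        rw [h5, map_smul, ← IsScalarTower.algebraMap_smul M c]
        exact Submodule.smul_mem _ _ hx
    exact hle (mem_span_idempotent hzM)
  -- descend from `M` to `L`
  let B : Submodule K A := Subalgebra.toSubmodule (sepSubalgebra K A)
  let q : A →ₗ[K] A ⧸ B := B.mkQ
  have hinj : Function.Injective ((IsScalarTower.toAlgHom K L M).toLinearMap.rTensor (A ⧸ B)) :=
    Module.Flat.rTensor_preserves_injective_linearMap _ (algebraMap L M).injective
  have hq : q.lTensor M (ι z) = 0 := by
    revert h1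
    generalize ι z = w
    intro hw
    induction hw using Submodule.span_induction with
    | mem x hx =>
      obtain ⟨a, ha, rfl⟩ := hx
      rw [LinearMap.lTensor_tmul, show q a = 0 from (Submodule.Quotient.mk_eq_zero B).mpr ha,
        TensorProduct.tmul_zero]
    | zero => rw [map_zero]
    | add x y _ _ hx hy => rw [map_add, hx, hy, add_zero]
    | smul c x _ hx =>
      rw [show q.lTensor M (c • x) = c • q.lTensor M x from (q.baseChange M).map_smul c x, hx, smul_zero]
  have hzq : q.lTensor L z = 0 := by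
    apply hinj
    rw [map_zero, ← hq, ← LinearMap.comp_apply, LinearMap.rTensor_comp_lTensor,
      ← LinearMap.lTensor_comp_rTensor]
    rfl
  obtain ⟨w, hw⟩ := ((lTensor_exact (M := B) (N := A) (P := A ⧸ B) L (LinearMap.exact_subtype_mkQ B)
    B.mkQ_surjective) z).mp hzq
  rw [← hw]
  clear hw hzq hq h1 hzM hz
  induction w with
  | zero => rw [map_zero]; exact Submodule.zero_mem _
  | tmul l b =>
    rw [LinearMap.lTensor_tmul]
    exact tmul_mem_sepSpan l b.2
  | add x y hx hy => rw [map_add]; exact Submodule.add_mem _ hx hy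

/-- Base change of the largest weakly étale subalgebra. -/
theorem maxWeaklyEtale_baseChange (L : Type u) [Field L] [Algebra K L] :
    EtAlgD.maxWeaklyEtale L (L ⊗[K] A) =
      Algebra.adjoin L ((Algebra.TensorProduct.includeRight : A →ₐ[K] L ⊗[K] A) ''
        (EtAlgD.maxWeaklyEtale K A : Set A)) := by
  refine le_antisymm (fun z hz => ?_) (Algebra.adjoin_le ?_)
  · have h1 := mem_sepSpan (mem_maxWeaklyEtale_iff.mp hz)
    refine Algebra.span_le_adjoin L _ (Submodule.span_mono ?_ h1)
    rintro _ ⟨a, ha, rfl⟩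
    exact ⟨a, mem_maxWeaklyEtale_iff.mpr ha, rfl⟩
  · rintro _ ⟨a, ha, rfl⟩
    obtain ⟨f, hf, hfa⟩ := mem_maxWeaklyEtale_iff.mp ha
    refine mem_maxWeaklyEtale_iff.mpr ⟨f.map (algebraMap K L), hf.map, ?_⟩
    rw [Polynomial.aeval_map_algebraMap, Polynomial.aeval_algHom_apply, hfa, map_zero]

end Groth.Agent.EtAlgPair.WeakField
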