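import Groth.Agent.IndAlg.Etale
import Groth.Agent.FlatMor.LmulFlat

/-!
# Weakly étale algebras over a field

An algebra over a field is weakly étale iff every element is killed by a separable polynomial.
-/

set_option autoImplicit false

universe u

open TensorProduct Polynomial

namespace Groth.Agent.EtAlgPair.WeakField

/-- If every cyclic quotient is flat, every element is a multiple of its square. -/
theorem exists_mul_self_mul {R : Type u} [CommRing R] (a : R)
    [Module.Flat R (R ⧸ Ideal.span {a})] : ∃ c : R, a = a * a * c := by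
  let J := Ideal.span {a}
  let Q := R ⧸ J
  have hsub : Function.Injective (J.subtype.rTensor Q) :=
    Module.Flat.rTensor_preserves_injective_linearMap (M := Q) J.subtype Subtype.val_injective
  have h0 : (⟨a, Ideal.mem_span_singleton_self a⟩ : J) ⊗ₜ[R] (1 : Q) = 0 := by
    apply hsub
    rw [map_zero, LinearMap.rTensor_tmul]
    apply (TensorProduct.lid R Q).injective
    rw [map_zero, TensorProduct.lid_tmul, Submodule.subtype_apply, Algebra.smul_def, mul_one]
    exact Ideal.Quotient.eq_zero_iff_mem.mpr (Ideal.mem_span_singleton_self a)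
  have h1 := congrArg (TensorProduct.tensorQuotEquivQuotSMul J J) h0
  have h2 : TensorProduct.tensorQuotEquivQuotSMul J J
      ((⟨a, Ideal.mem_span_singleton_self a⟩ : J) ⊗ₜ[R] (1 : Q)) =
      Submodule.Quotient.mk ⟨a, Ideal.mem_span_singleton_self a⟩ := by
    show TensorProduct.tensorQuotEquivQuotSMul J J (_ ⊗ₜ[R] Ideal.Quotient.mk J (1 : R)) = _
    rw [TensorProduct.tensorQuotEquivQuotSMul_tmul_mk, one_smul]
  rw [h2, map_zero, Submodule.Quotient.mk_eq_zero] at h1
  have h3 : a ∈ J * J := by
    have := Submodule.mem_map_of_mem (f := J.subtype) h1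
    rwa [Submodule.map_smul'', Submodule.map_top, Submodule.range_subtype] at this
  rw [Ideal.span_singleton_mul_span_singleton, Ideal.mem_span_singleton] at h3
  exact h3

/-- A weakly étale algebra over a field is von Neumann regular. -/
theorem exists_mul_self_mul_of_weaklyEtale (K : Type u) [Field K] {B : Type u} [CommRing B] [Algebra K B]
    [Algebra.WeaklyEtale K B] (a : B) : ∃ c : B, a = a * a * c := by
  haveI : Module.Flat B (B ⧸ Ideal.span {a}) :=
    Groth.Agent.FlatMor.LmulFlat.flat_of_flat_lmul K B (Algebra.WeaklyEtale.flat_lmul' K B) _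
  exact exists_mul_self_mul a

section Regular

variable {B : Type u} [CommRing B] (h : ∀ a : B, ∃ c, a = a * a * c)

include h

theorem isReduced_of_regular : IsReduced B := by
  refine isReduced_iff_pow_one_lt 2 one_lt_two |>.mpr fun a ha => ?_
  obtain ⟨c, hc⟩ := h a
  rw [hc, ← pow_two, ha, zero_mul]

theorem isMaximal_of_regular (q : Ideal B) [q.IsPrime] : q.IsMaximal := by
  rw [Ideal.isMaximal_iff]
  refine ⟨fun h1 => Ideal.IsPrime.ne_top' ((Ideal.eq_top_iff_one q).mpr h1), fun J a hJ haq haJ => ?_⟩
  obtain ⟨c, hc⟩ := h a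
  have : a * (1 - a * c) ∈ q := by
    rw [mul_sub, mul_one, ← mul_assoc, ← hc, sub_self]; exact q.zero_mem
  have h2 := (Ideal.IsPrime.mem_or_mem inferInstance this).resolve_left haq
  have := J.add_mem (hJ h2) (J.mul_mem_right c haJ)
  rwa [sub_add_cancel] at this

end Regular

/-- Regularity of the tensor square passes to subextensions and forces unramifiedness. -/
theorem formallyUnramified_of_regular_tensor (K E L : Type u) [Field K] [Field E] [Field L] [Algebra K E]
    [Algebra K L] [Algebra E L] [IsScalarTower K E L]
    (h : ∀ a : L ⊗[K] L, ∃ c, a = a * a * c) : Algebra.FormallyUnramified K E := by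
  obtain ⟨π, hπ⟩ := LinearMap.exists_leftInverse_of_injective
    (Algebra.linearMap E L) (LinearMap.ker_eq_bot.mpr (algebraMap E L).injective)
  have hπ1 : π 1 = 1 := by
    have h1 := LinearMap.congr_fun hπ 1
    rw [LinearMap.comp_apply, Algebra.linearMap_apply, map_one, LinearMap.id_apply] at h1
    exact h1
  let ι : E ⊗[K] E →ₐ[K] L ⊗[K] L :=
    Algebra.TensorProduct.map (IsScalarTower.toAlgHom K E L) (IsScalarTower.toAlgHom K E L)
  let ρ : L ⊗[K] L →ₗ[K] E ⊗[K] E := TensorProduct.map (π.restrictScalars K) (π.restrictScalars K)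
  have hρ : ∀ z w, ρ (ι z * w) = z * ρ w := by
    intro z w
    induction z with
    | zero => rw [map_zero, zero_mul, zero_mul, map_zero]
    | tmul a b =>
      induction w with
      | zero => rw [mul_zero, map_zero, mul_zero]
      | tmul c d =>
        simp only [ι, ρ, Algebra.TensorProduct.map_tmul, Algebra.TensorProduct.tmul_mul_tmul, TensorProduct.map_tmul,
          LinearMap.coe_restrictScalars, IsScalarTower.coe_toAlgHom']
        rw [← Algebra.smul_def, ← Algebra.smul_def, map_smul, map_smul, smul_eq_mul, smul_eq_mul]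
      | add u v hu hv => rw [mul_add, map_add, hu, hv, map_add, mul_add]
    | add u v hu hv => rw [map_add, add_mul, map_add, hu, hv, add_mul]
  have hρ1 : ρ (1 : L ⊗[K] L) = 1 := by
    rw [Algebra.TensorProduct.one_def]
    show π 1 ⊗ₜ[K] π 1 = _
    rw [hπ1, Algebra.TensorProduct.one_def]
  have hreg : ∀ d : E ⊗[K] E, ∃ c, d = d * d * c := by
    intro d
    obtain ⟨c, hc⟩ := h (ι d)
    refine ⟨ρ c, ?_⟩
    have h1 : ρ (ι d) = d := by
      have h2 := hρ d 1
      rwa [mul_one, hρ1, mul_one] at h2
    rw [← map_mul] at hc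
    rw [← hρ, ← hc, h1]
  rw [Algebra.formallyUnramified_iff]
  show Subsingleton (KaehlerDifferential.ideal K E).Cotangent
  rw [Ideal.cotangent_subsingleton_iff]
  refine le_antisymm Ideal.mul_le_left fun d hd => ?_
  obtain ⟨c, hc⟩ := hreg d
  rw [hc, mul_assoc]
  exact Ideal.mul_mem_mul hd (Ideal.mul_mem_right _ _ hd)

/-- A field extension whose tensor square is von Neumann regular is separable. -/
theorem isSeparable_of_regular_tensor (K L : Type u) [Field K] [Field L] [Algebra K L]
    (h : ∀ a : L ⊗[K] L, ∃ c, a = a * a * c) : Algebra.IsSeparable K L := by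
  refine ⟨fun x => ?_⟩
  have key : ∀ (E : Type u) [Field E] [Algebra K E] [Algebra E L] [IsScalarTower K E L]
      [Algebra.EssFiniteType K E] (y : E), IsSeparable K (algebraMap E L y) := by
    intro E _ _ _ _ _ y
    haveI : Algebra.FormallyUnramified K E := formallyUnramified_of_regular_tensor K E L h
    haveI := Algebra.FormallyUnramified.isSeparable K E
    exact IsSeparable.map (IsScalarTower.toAlgHom K E L) (algebraMap E L).injective
      (Algebra.IsSeparable.isSeparable K y)
  haveI : Algebra.EssFiniteType K (IntermediateField.adjoin K {x}) :=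
    IntermediateField.essFiniteType_iff.mpr ⟨{x}, by rw [Finset.coe_singleton]⟩
  exact key (IntermediateField.adjoin K {x}) ⟨x, IntermediateField.subset_adjoin K {x} rfl⟩

/-- Every element of a weakly étale algebra over a field is killed by a separable polynomial. -/
theorem exists_separable_aeval (K : Type u) [Field K] {B : Type u} [CommRing B] [Algebra K B]
    [Algebra.WeaklyEtale K B] (b : B) : ∃ f : K[X], f.Separable ∧ aeval b f = 0 := by
  classical
  have hreg := exists_mul_self_mul_of_weaklyEtale K (B := B)
  haveI : Algebra.WeaklyEtale K (B ⊗[K] B) := Algebra.WeaklyEtale.trans K B (B ⊗[K] B)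
  have hreg2 := exists_mul_self_mul_of_weaklyEtale K (B := B ⊗[K] B)
  let S : Ideal B :=
    { carrier := {a | ∃ T : Finset K[X], (∀ p ∈ T, p.Monic ∧ Irreducible p ∧ p.Separable) ∧
        a * ∏ p ∈ T, aeval b p = 0}
      zero_mem' := ⟨∅, by simp, zero_mul _⟩
      add_mem' := by
        rintro x y ⟨T, hT, hx⟩ ⟨T', hT', hy⟩
        refine ⟨T ∪ T', fun p hp => (Finset.mem_union.mp hp).elim (hT p) (hT' p), ?_⟩
        obtain ⟨u, hu⟩ := Finset.prod_dvd_prod_of_subset T (T ∪ T') (fun p => aeval b p) Finset.subset_union_left
        obtain ⟨v, hv⟩ := Finset.prod_dvd_prod_of_subset T' (T ∪ T') (fun p => aeval b p) Finset.subset_union_right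
        rw [add_mul]
        nth_rw 1 [hu]
        rw [hv, ← mul_assoc, hx, ← mul_assoc, hy, zero_mul, zero_mul, add_zero]
      smul_mem' := by
        rintro c x ⟨T, hT, hx⟩
        exact ⟨T, hT, by rw [smul_eq_mul, mul_assoc, hx, mul_zero]⟩ }
  have hS : S = ⊤ := by
    by_contra hne
    obtain ⟨q, hq, hSq⟩ := Ideal.exists_le_maximal S hne
    letI : Field (B ⧸ q) := Ideal.Quotient.field q
    haveI : Algebra.IsSeparable K (B ⧸ q) := by
      refine isSeparable_of_regular_tensor K (B ⧸ q) fun a => ?_
      have hs : Function.Surjective (Ideal.Quotient.mkₐ K q).toLinearMap := Ideal.Quotient.mk_surjective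
      obtain ⟨a', rfl⟩ := TensorProduct.map_surjective hs hs a
      obtain ⟨c, hc⟩ := hreg2 a'
      let φ := Algebra.TensorProduct.map (Ideal.Quotient.mkₐ K q) (Ideal.Quotient.mkₐ K q)
      refine ⟨φ c, ?_⟩
      show φ a' = φ a' * φ a' * φ c
      rw [← map_mul, ← map_mul, ← hc]
    let x := Ideal.Quotient.mk q b
    have hx : IsSeparable K x := Algebra.IsSeparable.isSeparable K x
    let f := minpoly K x
    have hfq : aeval b f ∈ q := by
      rw [← Ideal.Quotient.eq_zero_iff_mem]
      exact (Polynomial.aeval_algHom_apply (Ideal.Quotient.mkₐ K q) b f).symm.trans (minpoly.aeval K x)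
    obtain ⟨c, hc⟩ := hreg (aeval b f)
    have hmem : 1 - aeval b f * c ∈ S := by
      refine ⟨{f}, ?_, ?_⟩
      · intro p hp
        rw [Finset.mem_singleton] at hp
        subst hp
        exact ⟨minpoly.monic hx.isIntegral, minpoly.irreducible hx.isIntegral, hx⟩
      · rw [Finset.prod_singleton, sub_mul, one_mul, sub_eq_zero]
        conv_lhs => rw [hc]
        ring
    have h1 := q.add_mem (hSq hmem) (q.mul_mem_right c hfq)
    rw [sub_add_cancel] at h1
    exact hq.ne_top ((Ideal.eq_top_iff_one q).mpr h1)
  obtain ⟨T, hT, h1⟩ := (Ideal.eq_top_iff_one S).mp hS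
  refine ⟨∏ p ∈ T, p, Polynomial.separable_prod' ?_ fun p hp => (hT p hp).2.2, ?_⟩
  · intro p hp p' hp' hne
    refine ((hT p hp).2.1.coprime_iff_not_dvd).mpr fun hdvd => hne ?_
    exact Polynomial.eq_of_monic_of_associated (hT p hp).1 (hT p' hp').1
      ((hT p hp).2.1.associated_of_dvd (hT p' hp').2.1 hdvd)
  · rw [one_mul] at h1
    rw [map_prod]
    exact h1

/-- A finitely generated algebra generated by roots of separable polynomials is étale. -/
theorem etale_of_forall_separable {K : Type u} [Field K] {S : Type u} [CommRing S] [Algebra K S]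
    [Algebra.FiniteType K S] (h : ∀ b : S, ∃ f : K[X], f.Separable ∧ aeval b f = 0) : Algebra.Etale K S := by
  haveI : Algebra.FormallyUnramified K S := by
    rw [Algebra.formallyUnramified_iff]
    refine ⟨fun x y => ?_⟩
    have key : ∀ b : S, KaehlerDifferential.D K S b = 0 := by
      intro b
      obtain ⟨f, hf, hb⟩ := h b
      obtain ⟨u, v, huv⟩ := hf
      have h1 : aeval b (derivative f) • KaehlerDifferential.D K S b = 0 := by
        rw [← Derivation.map_aeval, hb, map_zero]
      have h2 : aeval b v * aeval b (derivative f) = 1 := by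
        have := congrArg (aeval b) huv
        rwa [map_add, map_mul, map_mul, hb, mul_zero, zero_add, map_one] at this
      calc KaehlerDifferential.D K S b = (1 : S) • KaehlerDifferential.D K S b := (one_smul _ _).symm
        _ = 0 := by rw [← h2, mul_smul, h1, smul_zero]
    have hall : ∀ z : KaehlerDifferential K S, z = 0 := by
      intro z
      have hz : z ∈ Submodule.span S (Set.range (KaehlerDifferential.D K S)) := by
        rw [KaehlerDifferential.span_range_derivation]; exact Submodule.mem_top
      induction hz using Submodule.span_induction with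
      | mem z hz => obtain ⟨b, rfl⟩ := hz; exact key b
      | zero => rfl
      | add z w _ _ hz hw => rw [hz, hw, add_zero]
      | smul c z _ hz => rw [hz, smul_zero]
    rw [hall x, hall y]
  haveI : Algebra.FormallyEtale K S := Algebra.FormallyEtale.of_formallyUnramified_of_field K S
  exact ⟨inferInstance, Algebra.FinitePresentation.of_finiteType.mp inferInstance⟩

theorem separable_subtype {K : Type u} [Field K] {B : Type u} [CommRing B] [Algebra K B]
    (h : ∀ b : B, ∃ f : K[X], f.Separable ∧ aeval b f = 0) (S : Subalgebra K B) :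
    ∀ b : S, ∃ f : K[X], f.Separable ∧ aeval b f = 0 := fun b => by
  obtain ⟨f, hf, hb⟩ := h (b : B)
  exact ⟨f, hf, Subtype.ext (by rw [← Subalgebra.coe_val S, ← aeval_algHom_apply]; exact hb)⟩

/-- Finitely generated subalgebras are étale. -/
theorem etale_of_fg {K : Type u} [Field K] {B : Type u} [CommRing B] [Algebra K B]
    (h : ∀ b : B, ∃ f : K[X], f.Separable ∧ aeval b f = 0) (S : Subalgebra K B) (hS : S.FG) :
    Algebra.Etale K S :=
  haveI : Algebra.FiniteType K S := S.fg_iff_finiteType.mp hS
  etale_of_forall_separable (separable_subtype h S)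

/-- An algebra all whose elements are separable is ind-étale. -/
theorem fac_of_forall_separable {K : Type u} [Field K] {B : Type u} [CommRing B] [Algebra K B]
    (h : ∀ b : B, ∃ f : K[X], f.Separable ∧ aeval b f = 0) : IndAlg.Fac (IndAlg.Etale.Et K) B := by
  intro Z _ _ hZ g
  have : g.range.FG := by
    rw [← Algebra.map_top]
    exact (Algebra.FiniteType.out : (⊤ : Subalgebra K Z).FG).map g
  exact ⟨g.range, inferInstance, inferInstance, etale_of_fg h g.range this, g.rangeRestrict, g.range.val,
    AlgHom.ext fun z => rfl⟩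

theorem weaklyEtale_of_forall_separable {K : Type u} [Field K] {B : Type u} [CommRing B] [Algebra K B]
    (h : ∀ b : B, ∃ f : K[X], f.Separable ∧ aeval b f = 0) : Algebra.WeaklyEtale K B :=
  IndAlg.Etale.weaklyEtale (fac_of_forall_separable h)

/-- Weakly étale over a field means that every element is killed by a separable polynomial. -/
theorem weaklyEtale_iff {K : Type u} [Field K] {B : Type u} [CommRing B] [Algebra K B] :
    Algebra.WeaklyEtale K B ↔ ∀ b : B, ∃ f : K[X], f.Separable ∧ aeval b f = 0 :=
  ⟨fun _ b => exists_separable_aeval K b, weaklyEtale_of_forall_separable⟩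

end Groth.Agent.EtAlgPair.WeakField
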